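import Cfsg.Agent.FusMinimal.Criteria
import Cfsg.Agent.FusMinimal.SolvableConstrained
import Cfsg.Agent.PGroup.Normal

/-!
Glauberman–Thompson's criterion relative to a strongly closed subgroup.
-/

set_option autoImplicit false

namespace CfsgLib.FusMinimal

open Cfsg Cfsg.FusionSystem CfsgLib.Fus CfsgLib.FusModel

universe u

variable {p : ℕ}

/-- A functorial subgroup of a strongly closed subgroup inside a normal subgroup is normal. -/
theorem isNormal_obj_of_le_normal (Φ : SubFunctor.{u} p) {Ω : Type u} [Group Ω] {S : Subgroup Ω}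
    [Finite S] (hS : IsPGroup p S) {F : Cfsg.FusionSystem S} {D Q : Subgroup Ω}
    (hD : F.StronglyClosed D) (hQ : F.IsNormal Q) (hDQ : D ≤ Q) : F.IsNormal (Φ.obj D) := by
  refine ⟨(Φ.obj_le D).trans hD.1, fun R φ hφ => ?_⟩
  obtain ⟨ψ, hψ, hψe, -⟩ := hQ.2 R φ hφ
  haveI : Finite D := finite_of_le hD.1
  have hDR : D ≤ R ⊔ Q := hDQ.trans le_sup_right
  have hle : R ⊔ Φ.obj D ≤ R ⊔ Q := sup_le_sup_left ((Φ.obj_le D).trans hDQ) R
  have hψD : (D.subgroupOf (R ⊔ Q)).map ψ = D :=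
    Fusion.Alperin.subgroupOf_map_eq (F.injective_of_mem hψ) hDR
      fun x hx => Fusion.Alperin.map_mem_of_stronglyClosed hD hψ hx
  have hobj : ((Φ.obj D).subgroupOf (R ⊔ Q)).map ψ = Φ.obj D := by
    rw [← Φ.obj_image hDR (hS.to_le hD.1) ψ (F.injective_of_mem hψ), hψD]
  refine ⟨ψ.comp (Subgroup.inclusion hle), restrict_mem F hψ hle, fun x => hψe x, ?_⟩
  haveI : Finite (Φ.obj D : Subgroup Ω) := finite_of_le ((Φ.obj_le D).trans hD.1)
  refine Fusion.Alperin.subgroupOf_map_eq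
    ((F.injective_of_mem hψ).comp (Subgroup.inclusion_injective hle)) le_sup_right fun x hx => ?_
  exact hobj.le ⟨Subgroup.inclusion hle x, hx, rfl⟩

variable [Fact p.Prime]

theorem glauberman_thompson_stronglyClosed (hp : p ≠ 2) {Ω : Type u} [Group Ω] {S : Subgroup Ω}
    [Finite S] (hS : IsPGroup p S) {F : Cfsg.FusionSystem S} (hF : F.IsSaturated p) {D : Subgroup Ω}
    (hD : F.StronglyClosed D)
    (hh : AutsArePGroups p
      (normalizerSystem F ((zjFunctor p).obj D) (((zjFunctor p).obj_le D).trans hD.1))) :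
    AutsArePGroups p F := by
  revert D hS hF hD hh
  refine system_induction (C := fun {Ω} _ {S} (F : Cfsg.FusionSystem S) =>
    ∀ (D : Subgroup Ω) (hD : F.StronglyClosed D), IsPGroup p S → F.IsSaturated p →
      AutsArePGroups p
        (normalizerSystem F ((zjFunctor p).obj D) (((zjFunctor p).obj_le D).trans hD.1)) →
      AutsArePGroups p F) ?_ F |> fun h hS hF D hD hh => h D hD hS hF hh
  intro Ω _ S _ F ihs ihm D hD hS hF hh
  by_contra hn
  have hnot : ∀ Q, F.IsNormal Q → ¬ D ≤ Q := fun Q hQ hDQ => hn (by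
    have hV := isNormal_obj_of_le_normal (zjFunctor p) hS hD hQ hDQ
    refine autsP_mono (?_ : S ≤ normalizerIn S _)
      (fun _ _ hφ => hom_normalizerHom_of_isNormal hV hφ) hh
    exact le_inf le_rfl (Fusion.Alperin.le_normalizer_of_stronglyClosed
      (Fusion.Alperin.stronglyClosed_of_isNormal hV)))
  have hD1 : D ≠ ⊥ := fun h => hnot ⊥ (Fusion.Alperin.isNormal_bot F) h.le
  have hDn : S ≤ Subgroup.normalizer (D : Set Ω) :=
    Fusion.Alperin.le_normalizer_of_stronglyClosed hD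
  obtain ⟨Q, hQ, hc⟩ := exists_normal_centric hS hF hn
    (fun E hEF hE _ hne => ihm E hEF hne D ⟨hD.1, fun R hR φ hφ => hD.2 R hR φ (hEF R hφ)⟩ hS hE
      (autsP_normalizer_mono le_rfl hEF (((zjFunctor p).obj_le D).trans hD.1) hh))
    (fun U hU hU1 hlt hbad => by
      set T := normalizerIn S U with hTdef
      haveI : Finite T := finite_of_le (normalizerIn_le U)
      have hTp : IsPGroup p T := isPGroup_le hS (normalizerIn_le (S := S) U)
      have hDT : (normalizerSystem F U hU.1).StronglyClosed (D ⊓ T) :=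
        stronglyClosed_inf_subsystem (fun _ _ h => h.1) hD
      haveI : Finite (D ⊓ T : Subgroup Ω) := finite_of_le (hDT.1.trans (normalizerIn_le U))
      have hne : D ⊓ T ≠ ⊥ := by
        haveI := (Subgroup.normal_subgroupOf_iff_le_normalizer hD.1).2 hDn
        have h1 := CfsgLib.PGroup.inf_center_ne_bot hS (D.subgroupOf S)
          (fun h => hD1 (le_bot_iff.1 fun x hx => by
            simpa using (Subgroup.eq_bot_iff_forall _).1 h ⟨x, hD.1 hx⟩ hx))
        obtain ⟨z, ⟨hzD, hzc⟩, hz1⟩ := (Subgroup.bot_or_exists_ne_one _).resolve_left h1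
        intro hbot
        refine hz1 (Subtype.ext (Subgroup.mem_bot.1 (hbot ▸
          (⟨hzD, z.2, Subgroup.centralizer_le_normalizer (U : Set Ω) (Subgroup.mem_centralizer_iff.2 fun u hu => ?_)⟩ : (z : Ω) ∈ D ⊓ T))))
        exact congrArg Subtype.val (Subgroup.mem_center_iff.1 hzc ⟨u, hU.1 hu⟩)
      refine ⟨(zjFunctor p).obj (D ⊓ T), ((zjFunctor p).obj_le _).trans inf_le_right,
        (zjFunctor p).ne_bot _ inferInstance (hTp.to_le inf_le_right) hne, fun g hg => ?_,
        fun h => hbad (ihs _ hlt (D ⊓ T) hDT hTp (isSaturated_normalizer hS hF hU fun _ => rfl) h)⟩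
      refine (zjFunctor p).normalizer_le (hTp.to_le inf_le_right) ?_
      rw [Subgroup.mem_normalizer_iff_map_conj_eq,
        Subgroup.map_inf _ _ _ (MulAut.conj g).injective,
        Subgroup.mem_normalizer_iff_map_conj_eq.1 (hDn hg.1),
        Subgroup.mem_normalizer_iff_map_conj_eq.1 hg.2])
    (fun Q hQ _ _ _ _ Ω' _ S' _ θ E hE hS' hES _ hlt hbad => by
      have hD' : E.StronglyClosed (imageAlong θ D) := Fusion.Alperin.stronglyClosed_imageAlong
        (Fusion.Alperin.isSurjectiveMorphism_of_isFactorSystem hS hF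
          (Fusion.Alperin.stronglyClosed_of_isNormal hQ) hE) hD
      haveI : Finite (imageAlong θ D : Subgroup Ω') := finite_of_le hD'.1
      have hne : imageAlong θ D ≠ ⊥ := fun hbot => hnot Q hQ fun x hx =>
        (hE.2.1 ⟨x, hD.1 hx⟩).1 (Subgroup.mem_bot.1 (hbot ▸ ⟨⟨x, hD.1 hx⟩, hx, rfl⟩))
      exact ⟨_, ((zjFunctor p).obj_le _).trans hD'.1,
        (zjFunctor p).ne_bot _ inferInstance (hS'.to_le hD'.1) hne,
        (Fusion.Alperin.le_normalizer_of_stronglyClosed hD').trans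
          ((zjFunctor p).normalizer_le (hS'.to_le hD'.1)),
        fun h => hbad (ihs E hlt _ hD' hS' hES h)⟩)
  obtain ⟨L, _, ι, hm, -⟩ := exists_free_model hS hF hQ hc
  obtain ⟨hfin, hreal, ⟨W, hW⟩, -⟩ := id hm
  haveI := hfin
  haveI : Finite D := finite_of_le hD.1
  have h1 := npc_normalizer hreal ⟨W, hW⟩ (((zjFunctor p).obj_le D).trans hD.1)
    (hDn.trans ((zjFunctor p).normalizer_le (hS.to_le hD.1))) hh
  rw [← (zjFunctor p).obj_image hD.1 (hS.to_le hD.1) ι hreal.1, ← centerThompsonAOf_eq] at h1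
  refine hn (autsP_of_model_npc hS hm (CfsgLib.GlaubermanZJ.hasNormalPComplement_of_stronglyClosed hp
    (CfsgLib.GlaubermanZJ.abelianCenter p) _ L rfl W _ ⟨?_, ?_⟩ h1))
  · rw [hW]; exact Subgroup.map_le_range _ _
  · rintro _ ⟨d, hd, rfl⟩ g hg
    have hP : Subgroup.zpowers (d : Ω) ≤ D := Subgroup.zpowers_le.2 hd
    obtain ⟨φ, hφ, hφl⟩ := exists_hom_of_conj hreal (hP.trans hD.1) g fun y => by
      obtain ⟨k, hk⟩ := Subgroup.mem_zpowers_iff.1 y.2
      have e : (⟨(y : Ω), (hP.trans hD.1) y.2⟩ : S) = d ^ k := Subtype.ext (by simpa using hk.symm)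
      rw [e, map_zpow, ← conj_zpow]
      exact zpow_mem (hW ▸ hg) k
    exact ⟨_, hD.2 _ hP φ hφ ⟨d, Subgroup.mem_zpowers _⟩,
      hφl ⟨d, Subgroup.mem_zpowers _⟩ (hom_mem F hφ _)⟩

end CfsgLib.FusMinimal
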